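import Groth.Prelude.Def_GLinSh
import Groth.Agent.S5329
import Groth.Agent.Lib.AlgGrpBasic19.Basic

/-!
The stabilisers of an action form a group scheme over the space; their dimension is upper semicontinuous.
-/

universe u

open CategoryTheory CategoryTheory.Limits AlgebraicGeometry MonoidalCategory CartesianMonoidalCategory MonObj Opposite

set_option linter.style.haveILetI false
set_option backward.isDefEq.respectTransparency false
set_option backward.isDefEq.respectTransparency.types false

namespace Groth.Agent.StabSemi19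

variable {k : Type u} [Field k] {G X : Over (Spec (CommRingCat.of k))} [GrpObj G] (a : AlgGrp.Action G X)

/-- the group component of a stabiliser point -/
noncomputable def toG {T : Over (Spec (CommRingCat.of k))} (f : T ⟶ X) : GLinSh.stab a f ⟶ G.left :=
  pullback.fst (GIT.psi a f).left (lift f (𝟙 T)).left ≫ (fst G T).left

theorem psi_cond {S T : Over (Spec (CommRingCat.of k))} (f : T ⟶ X) (g : S ⟶ G) (w : S ⟶ T) :
    lift g w ≫ GIT.psi a f = w ≫ lift f (𝟙 T) ↔ lift g (w ≫ f) ≫ a.act = w ≫ f := by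
  rw [GIT.psi, comp_lift, comp_lift, lift_snd, Category.comp_id, lift_whiskerLeft_assoc]
  exact ⟨fun h => by simpa using congrArg (· ≫ fst X T) h, fun h => by rw [h]⟩

/-- the point of the stabiliser -/
noncomputable def mk {S T : Over (Spec (CommRingCat.of k))} (f : T ⟶ X) (g : S ⟶ G) (w : S ⟶ T)
    (h : lift g (w ≫ f) ≫ a.act = w ≫ f) : S.left ⟶ GLinSh.stab a f :=
  pullback.lift (lift g w).left w.left (congrArg CommaMorphism.left ((psi_cond a f g w).2 h))

theorem mk_toG {S T : Over (Spec (CommRingCat.of k))} (f : T ⟶ X) (g : S ⟶ G) (w : S ⟶ T)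
    (h : lift g (w ≫ f) ≫ a.act = w ≫ f) : mk a f g w h ≫ toG a f = g.left := by
  rw [mk, toG, pullback.lift_fst_assoc, ← Over.comp_left, lift_fst]

theorem mk_stabTo {S T : Over (Spec (CommRingCat.of k))} (f : T ⟶ X) (g : S ⟶ G) (w : S ⟶ T)
    (h : lift g (w ≫ f) ≫ a.act = w ≫ f) : mk a f g w h ≫ GLinSh.stabTo a f = w.left :=
  pullback.lift_snd _ _ _

/-- the two components are compatible -/
theorem stab_snd {T : Over (Spec (CommRingCat.of k))} (f : T ⟶ X) :
    pullback.fst (GIT.psi a f).left (lift f (𝟙 T)).left ≫ (snd G T).left = GLinSh.stabTo a f := by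
  have h := congrArg (· ≫ (snd X T).left) (pullback.condition (f := (GIT.psi a f).left) (g := (lift f (𝟙 T)).left))
  simp only [Category.assoc, ← Over.comp_left, GIT.psi, lift_snd, Over.id_left, Category.comp_id] at h
  exact h

theorem stab_ext {S : Scheme.{u}} {T : Over (Spec (CommRingCat.of k))} (f : T ⟶ X) (r r' : S ⟶ GLinSh.stab a f)
    (h1 : r ≫ toG a f = r' ≫ toG a f) (h2 : r ≫ GLinSh.stabTo a f = r' ≫ GLinSh.stabTo a f) : r = r' := by
  refine pullback.hom_ext (pullback.hom_ext ?_ ?_) h2
  · rw [Category.assoc, Category.assoc]; exact h1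
  · have h3 := h2
    rw [← stab_snd a f] at h3
    simp only [← Category.assoc] at h3
    exact h3

/-- the components of a point -/
theorem exists_point {S : Scheme.{u}} {T : Over (Spec (CommRingCat.of k))} (f : T ⟶ X) (r : S ⟶ GLinSh.stab a f) :
    ∃ (g : Over.mk (r ≫ GLinSh.stabTo a f ≫ T.hom) ⟶ G) (w : Over.mk (r ≫ GLinSh.stabTo a f ≫ T.hom) ⟶ T)
      (h : lift g (w ≫ f) ≫ a.act = w ≫ f), mk a f g w h = r := by
  let S' := Over.mk (r ≫ GLinSh.stabTo a f ≫ T.hom)
  let q : S' ⟶ G ⊗ T := Over.homMk (r ≫ pullback.fst (GIT.psi a f).left (lift f (𝟙 T)).left) (by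
    show (r ≫ pullback.fst _ _) ≫ (G ⊗ T).hom = r ≫ GLinSh.stabTo a f ≫ T.hom
    rw [← stab_snd a f, Category.assoc, Category.assoc, Over.w (snd G T)])
  let w : S' ⟶ T := Over.homMk (r ≫ GLinSh.stabTo a f) (Category.assoc _ _ _)
  have hq : q ≫ snd G T = w := Over.OverMorphism.ext (by
    show (r ≫ pullback.fst _ _) ≫ (snd G T).left = r ≫ GLinSh.stabTo a f
    rw [Category.assoc, stab_snd])
  have hl : q = lift (q ≫ fst G T) w := by rw [← hq]; exact (lift_comp_fst_snd q).symm
  have hc : lift (q ≫ fst G T) w ≫ GIT.psi a f = w ≫ lift f (𝟙 T) := by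
    rw [← hl]
    refine Over.OverMorphism.ext ?_
    show (r ≫ pullback.fst _ _) ≫ (GIT.psi a f).left = (r ≫ pullback.snd _ _) ≫ (lift f (𝟙 T)).left
    rw [Category.assoc, pullback.condition, Category.assoc]
  refine ⟨q ≫ fst G T, w, (psi_cond a f _ w).1 hc, stab_ext a f _ _ ?_ ?_⟩
  · rw [mk_toG]; exact Category.assoc _ _ _
  · rw [mk_stabTo]; rfl

/-- the universal stabiliser over `X` -/
noncomputable def universalStab : Over X.left := Over.mk (GLinSh.stabTo a (𝟙 X))

/-- an `X`-scheme over `k` -/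
noncomputable abbrev overK (T : Over X.left) : Over (Spec (CommRingCat.of k)) := Over.mk (T.hom ≫ X.hom)

/-- its tautological point -/
noncomputable abbrev pt (T : Over X.left) : overK T ⟶ X := Over.homMk T.hom rfl

/-- forget to `k` -/
noncomputable abbrev mapK {T T' : Over X.left} (φ : T' ⟶ T) : overK T' ⟶ overK T := Over.homMk φ.left (by
  show φ.left ≫ T.hom ≫ X.hom = T'.hom ≫ X.hom
  rw [← Category.assoc, Over.w φ])

/-- fixing points -/
def fixer (T : Over X.left) : Subgroup (overK T ⟶ G) where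
  carrier := {g | lift g (pt T) ≫ a.act = pt T}
  one_mem' := AlgGrpBasic19.act_one a _
  mul_mem' := fun {g g'} (hg : lift g _ ≫ a.act = _) (hg' : lift g' _ ≫ a.act = _) => by
    show lift (g * g') _ ≫ a.act = _
    rw [AlgGrpBasic19.act_mul, hg', hg]
  inv_mem' := fun {g} (hg : lift g _ ≫ a.act = _) => by
    show lift g⁻¹ _ ≫ a.act = _
    conv_lhs => rw [← hg, ← AlgGrpBasic19.act_mul, inv_mul_cancel, AlgGrpBasic19.act_one]

theorem map_mem {T T' : Over X.left} (φ : T' ⟶ T) {g : overK T ⟶ G} (hg : g ∈ fixer a T) :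
    mapK φ ≫ g ∈ fixer a T' := by
  have e : mapK φ ≫ pt T = pt T' := Over.OverMorphism.ext (Over.w φ)
  show lift _ _ ≫ a.act = _
  rw [← e, ← comp_lift_assoc]
  exact congrArg _ hg

/-- the functor of fixing points -/
noncomputable def fixFunctor : (Over X.left)ᵒᵖ ⥤ GrpCat.{u} where
  obj T := GrpCat.of (fixer a T.unop)
  map {T T'} φ := GrpCat.ofHom
    { toFun := fun g => ⟨mapK φ.unop ≫ g.1, map_mem a φ.unop g.2⟩
      map_one' := Subtype.ext (MonObj.comp_one _)
      map_mul' := fun g g' => Subtype.ext (MonObj.comp_mul _ _ _) }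
  map_id T := by
    ext g
    exact Category.id_comp _
  map_comp φ ψ := by
    ext g
    exact Category.assoc _ _ _

/-- the representation -/
noncomputable def repr : (fixFunctor a ⋙ forget GrpCat).RepresentableBy (universalStab a) where
  homEquiv {T} :=
    { toFun := fun r => ⟨Over.homMk (r.left ≫ toG a (𝟙 X)) (by
          rw [toG, Category.assoc, Category.assoc, Over.w (fst G X), ← Over.w (snd G X),
            ← Category.assoc (pullback.fst _ _), stab_snd]
          exact (Category.assoc _ _ _).symm.trans (congrArg (· ≫ X.hom) (Over.w r))), by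
        obtain ⟨g, w, h, e⟩ := exists_point a (𝟙 X) r.left
        have hw : w.left = T.hom := by
          rw [← mk_stabTo a (𝟙 X) g w h, e]
          exact Over.w r
        have hg : g.left = r.left ≫ toG a (𝟙 X) := by rw [← mk_toG a (𝟙 X) g w h, e]
        let s : overK T ⟶ Over.mk (r.left ≫ GLinSh.stabTo a (𝟙 X) ≫ X.hom) := Over.homMk (𝟙 _) (by
          show 𝟙 _ ≫ _ ≫ _ ≫ X.hom = T.hom ≫ X.hom
          rw [Category.id_comp, ← Category.assoc]
          exact congrArg (· ≫ X.hom) (Over.w r))
        have h' := congrArg (s ≫ ·) h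
        simp only [comp_lift_assoc, Category.comp_id] at h'
        show lift _ _ ≫ a.act = _
        convert h' using 2
        · congr 1
          · exact Over.OverMorphism.ext (by show _ = 𝟙 _ ≫ g.left; rw [Category.id_comp]; exact hg.symm)
          · exact Over.OverMorphism.ext (by show _ = 𝟙 _ ≫ w.left; rw [Category.id_comp]; exact hw.symm)
        · exact Over.OverMorphism.ext (by show _ = 𝟙 _ ≫ w.left; rw [Category.id_comp]; exact hw.symm)⟩
      invFun := fun g => Over.homMk (mk a (𝟙 X) g.1 (pt T) (by rw [Category.comp_id]; exact g.2))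
        (mk_stabTo a (𝟙 X) g.1 (pt T) _)
      left_inv := fun r => by
        apply Over.OverMorphism.ext
        apply stab_ext a (𝟙 X)
        · apply mk_toG
          rw [Category.comp_id]; exact ((fun x : fixer a T => x.2) _)
        · refine Eq.trans ?_ (Over.w r).symm
          apply mk_stabTo
          rw [Category.comp_id]; exact ((fun x : fixer a T => x.2) _)
      right_inv := fun g => by
        apply Subtype.ext
        apply Over.OverMorphism.ext
        apply mk_toG
        rw [Category.comp_id]; exact ((fun x : fixer a T => x.2) g) }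
  homEquiv_comp φ r := by
    apply Subtype.ext
    apply Over.OverMorphism.ext
    exact Category.assoc _ _ _

theorem isPullback_stab {T : Over (Spec (CommRingCat.of k))} (f : T ⟶ X) :
    ∃ φ : GLinSh.stab a f ⟶ GLinSh.stab a (𝟙 X),
      IsPullback φ (GLinSh.stabTo a f) (GLinSh.stabTo a (𝟙 X)) f.left := by
  obtain ⟨g, w, h, e⟩ := exists_point a f (𝟙 _)
  let φ := mk a (𝟙 X) g (w ≫ f) (by rw [Category.comp_id]; exact h)
  have hw : w.left = GLinSh.stabTo a f := by
    rw [← mk_stabTo a f g w h, e]; exact Category.id_comp _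
  have hg : g.left = toG a f := by rw [← mk_toG a f g w h, e]; exact Category.id_comp _
  have hsq : φ ≫ GLinSh.stabTo a (𝟙 X) = GLinSh.stabTo a f ≫ f.left := by
    rw [mk_stabTo, Over.comp_left, hw]
  have hφ : φ ≫ toG a (𝟙 X) = toG a f := (mk_toG a (𝟙 X) g (w ≫ f) _).trans hg
  have hlift : ∀ s : PullbackCone (GLinSh.stabTo a (𝟙 X)) f.left,
      ∃ l : s.pt ⟶ GLinSh.stab a f, l ≫ toG a f = s.fst ≫ toG a (𝟙 X) ∧ l ≫ GLinSh.stabTo a f = s.snd := fun s => by
    obtain ⟨g', w', h', e'⟩ := exists_point a (𝟙 X) s.fst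
    let v : Over.mk (s.fst ≫ GLinSh.stabTo a (𝟙 X) ≫ X.hom) ⟶ T := Over.homMk s.snd (by
      show s.snd ≫ T.hom = s.fst ≫ _ ≫ X.hom
      rw [← Category.assoc, s.condition, Category.assoc, Over.w f])
    have hv : v ≫ f = w' := Over.OverMorphism.ext (by
      show s.snd ≫ f.left = _
      rw [← s.condition]
      exact (congrArg (· ≫ GLinSh.stabTo a (𝟙 X)) e').symm.trans (mk_stabTo a (𝟙 X) g' w' h'))
    rw [Category.comp_id] at h'
    refine ⟨mk a f g' v (by rw [hv]; exact h'), ?_, mk_stabTo a f g' v _⟩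
    rw [mk_toG]
    exact (mk_toG a (𝟙 X) g' w' _).symm.trans (congrArg (· ≫ toG a (𝟙 X)) e')
  choose l hl1 hl2 using hlift
  refine ⟨φ, IsPullback.of_isLimit' ⟨hsq⟩ (PullbackCone.IsLimit.mk _ l (fun s => ?_) hl2
    fun s m h1 h2 => stab_ext a f _ _ ?_ ?_)⟩
  · refine stab_ext a (𝟙 X) _ _ ?_ ?_
    · rw [Category.assoc, hφ, hl1]
    · rw [Category.assoc, hsq, ← Category.assoc, hl2]; exact s.condition.symm
  · rw [hl1, ← h1, Category.assoc, hφ]
  · rw [hl2]; exact h2

theorem upperSemicontinuous_stab [LocallyOfFiniteType G.hom] [LocallyOfFiniteType X.hom] :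
    UpperSemicontinuous fun x : X.left => topologicalKrullDim
      (GLinSh.stab a (Over.homMk (X.left.fromSpecResidueField x) rfl :
        Over.mk (X.left.fromSpecResidueField x ≫ X.hom) ⟶ X)) := by
  letI : GrpObj (universalStab a) := GrpObj.ofRepresentableBy _ (fixFunctor a) (repr a)
  haveI : LocallyOfFiniteType (G ⊗ X).hom :=
    inferInstanceAs (LocallyOfFiniteType (pullback.fst G.hom X.hom ≫ G.hom))
  haveI : LocallyOfFiniteType (GIT.psi a (𝟙 X)).left := AlgGrpBasic19.lft_left _
  haveI : LocallyOfFiniteType (universalStab a).hom :=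
    inferInstanceAs (LocallyOfFiniteType (pullback.snd (GIT.psi a (𝟙 X)).left _))
  have h := (Groth.Agent.S5329.result X.left (universalStab a)).1
  convert h using 1
  funext x
  obtain ⟨φ, hφ⟩ := isPullback_stab a (Over.homMk (X.left.fromSpecResidueField x) rfl :
    Over.mk (X.left.fromSpecResidueField x ≫ X.hom) ⟶ X)
  let e : GLinSh.stab a (Over.homMk (X.left.fromSpecResidueField x) rfl :
      Over.mk (X.left.fromSpecResidueField x ≫ X.hom) ⟶ X) ≅ (universalStab a).hom.fiber x := hφ.isoPullback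
  exact (IsHomeomorph.topologicalKrullDim_eq _ e.hom.homeomorph.isHomeomorph).trans
    (IsHomeomorph.topologicalKrullDim_eq _ ((universalStab a).hom.fiberHomeo x).isHomeomorph)

end Groth.Agent.StabSemi19
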